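import Mathlib
import Cfsg.Prelude.Def_Blocks
import Cfsg.Prelude.Def_Classical
import Cfsg.Agent.Lib.Helper79.ModP.Defs

/-!
# S4504 (helper79's project), module [B-SL2MAT] (helper15)

`b3_conj`: for a unipotent `u` with a single Jordan block on `W` (`2 ≤ dim W`, `dim W + 1 < p`, `p ≥ 5`) the
endomorphism `D A = u A u⁻¹ - A` of `End W` has exactly one Jordan block of size three, and `D ^ (2 dim W - 1) = 0`.
The proof is the `sl₂`-computation of the sheet `Lib/Helper79/S4504/SPINE4504.md`.
-/

set_option autoImplicit false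

open Cfsg Cfsg.Agent.Lib.Helper79.ModP

universe u

namespace Cfsg.Agent.Lib.Helper15.S4504

open Module

section cyclic

variable {F W : Type*} [Field F] [AddCommGroup W] [Module F W]

/-- If `ν ^ n = 0` and `ν ^ (n - 1) v ≠ 0`, then `v, ν v, …, ν ^ (n - 1) v` are linearly independent. -/
theorem linearIndependent_pow_apply' (ν : Module.End F W) (n : ℕ) (hn : ν ^ n = 0) (v : W)
    (hv : (ν ^ (n - 1)) v ≠ 0) : LinearIndependent F (fun i : Fin n => (ν ^ (i : ℕ)) v) := by
  rw [Fintype.linearIndependent_iff]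
  intro g hg
  suffices h : ∀ m (hm : m < n), g ⟨m, hm⟩ = 0 from fun i => h i i.2
  intro m
  induction m using Nat.strong_induction_on with
  | _ m ih =>
    intro hm
    have h1 := congrArg (ν ^ (n - 1 - m)) hg
    rw [map_sum, map_zero] at h1
    rw [Finset.sum_eq_single (⟨m, hm⟩ : Fin n)] at h1
    · rw [map_smul, ← Module.End.mul_apply, ← pow_add] at h1
      have h2 : n - 1 - m + m = n - 1 := by omega
      simp only [h2] at h1
      rcases smul_eq_zero.mp h1 with h3 | h3
      · exact h3
      · exact absurd h3 hv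
    · intro i _ hi
      rw [map_smul, ← Module.End.mul_apply, ← pow_add]
      rcases lt_or_gt_of_ne (fun h => hi (Fin.ext h) : (i : ℕ) ≠ m) with h3 | h3
      · have := ih i h3 i.2
        rw [show (⟨(i : ℕ), i.2⟩ : Fin n) = i from rfl] at this
        rw [this, zero_smul]
      · have h4 : n ≤ n - 1 - m + i := by omega
        rw [pow_eq_zero_of_le h4 hn, LinearMap.zero_apply, smul_zero]
    · intro h
      exact absurd (Finset.mem_univ _) h

end cyclic

section sl2

variable {F W : Type*} [Field F] [AddCommGroup W] [Module F W]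

/-- The semisimple element of the `sl₂`-triple attached to a cyclic basis. -/
noncomputable def opH (b : Basis (Fin (finrank F W)) F W) : Module.End F W :=
  b.constr F (fun i => ((2 * ((i : ℕ) : F)) - (finrank F W : F) + 1) • b i)

/-- The lowering element of the `sl₂`-triple attached to a cyclic basis. -/
noncomputable def opF (ν : Module.End F W) (v : W) (b : Basis (Fin (finrank F W)) F W) :
    Module.End F W :=
  b.constr F (fun i => (((i : ℕ) : F) * ((finrank F W : F) - ((i : ℕ) : F))) • (ν ^ ((i : ℕ) - 1)) v)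

variable (ν : Module.End F W) (v : W) (b : Basis (Fin (finrank F W)) F W)

theorem pow_apply_eq_zero (hnil : ν ^ (finrank F W) = 0) (k : ℕ) (hk : finrank F W ≤ k) :
    (ν ^ k) v = 0 := by
  rw [pow_eq_zero_of_le hk hnil, LinearMap.zero_apply]

theorem apply_pow_apply (k : ℕ) : ν ((ν ^ k) v) = (ν ^ (k + 1)) v := by
  rw [pow_succ', Module.End.mul_apply]

theorem opH_apply (hb : ∀ i, b i = (ν ^ (i : ℕ)) v) (hnil : ν ^ (finrank F W) = 0) (k : ℕ) :
    opH b ((ν ^ k) v) = ((2 * (k : F)) - (finrank F W : F) + 1) • (ν ^ k) v := by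
  by_cases hk : k < finrank F W
  · have h1 := hb ⟨k, hk⟩
    simp only at h1
    rw [← h1]
    unfold opH
    rw [Basis.constr_basis]
  · rw [pow_apply_eq_zero ν v hnil k (not_lt.mp hk), map_zero, smul_zero]

theorem opF_apply (hb : ∀ i, b i = (ν ^ (i : ℕ)) v) (hnil : ν ^ (finrank F W) = 0) (k : ℕ) :
    opF ν v b ((ν ^ k) v) = ((k : F) * ((finrank F W : F) - (k : F))) • (ν ^ (k - 1)) v := by
  by_cases hk : k < finrank F W
  · have h1 := hb ⟨k, hk⟩
    simp only at h1
    rw [← h1]
    unfold opF
    rw [Basis.constr_basis]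
  · rcases eq_or_lt_of_le (not_lt.mp hk) with h | h
    · rw [pow_apply_eq_zero ν v hnil k (not_lt.mp hk), map_zero, ← h, sub_self, mul_zero, zero_smul]
    · rw [pow_apply_eq_zero ν v hnil k (not_lt.mp hk), map_zero,
        pow_apply_eq_zero ν v hnil (k - 1) (by omega), smul_zero]

theorem sl2_rel1 (hb : ∀ i, b i = (ν ^ (i : ℕ)) v) (hnil : ν ^ (finrank F W) = 0) :
    ν * opF ν v b - opF ν v b * ν = opH b := by
  apply b.ext
  intro i
  rw [hb i, LinearMap.sub_apply, Module.End.mul_apply, Module.End.mul_apply, apply_pow_apply,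
    opF_apply ν v b hb hnil, opF_apply ν v b hb hnil, opH_apply ν v b hb hnil, map_smul, apply_pow_apply,
    Nat.add_sub_cancel]
  rcases Nat.eq_zero_or_pos (i : ℕ) with h0 | hpos
  · rw [h0, Nat.cast_zero, zero_mul, zero_smul, zero_sub, ← neg_smul]
    congr 1
    push_cast
    ring
  · have h1 : (i : ℕ) - 1 + 1 = i := by omega
    rw [h1, ← sub_smul]
    congr 1
    push_cast
    ring

theorem sl2_rel2 (hb : ∀ i, b i = (ν ^ (i : ℕ)) v) (hnil : ν ^ (finrank F W) = 0) :
    opH b * ν - ν * opH b = 2 * ν := by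
  apply b.ext
  intro i
  have h2 : (2 * ν) ((ν ^ (i : ℕ)) v) = (2 : F) • (ν ^ ((i : ℕ) + 1)) v := by
    rw [two_mul, LinearMap.add_apply, apply_pow_apply, ← two_smul F]
  rw [hb i, h2, LinearMap.sub_apply, Module.End.mul_apply, Module.End.mul_apply, apply_pow_apply,
    opH_apply ν v b hb hnil, opH_apply ν v b hb hnil, map_smul, apply_pow_apply, ← sub_smul]
  congr 1
  push_cast
  ring

theorem sum_formula {R : Type*} [CommRing R] (x : R) (n : ℕ) :
    6 * ∑ k ∈ Finset.range n, (((k : R) + 1) * (x - ((k : R) + 1))) =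
      (n : R) * ((n : R) + 1) * (3 * x - 2 * (n : R) - 1) := by
  induction n with
  | zero => simp
  | succ n ih =>
    rw [Finset.sum_range_succ, mul_add, ih]
    push_cast
    ring

theorem trace_opF_mul (hb : ∀ i, b i = (ν ^ (i : ℕ)) v) (hnil : ν ^ (finrank F W) = 0) :
    6 * LinearMap.trace F W (opF ν v b * ν) =
      ((finrank F W : F) - 1) * (finrank F W : F) * ((finrank F W : F) + 1) := by
  have h1 : LinearMap.trace F W (opF ν v b * ν) = ∑ k ∈ Finset.range (finrank F W),
      (((k : F) + 1) * ((finrank F W : F) - ((k : F) + 1))) := by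
    rw [LinearMap.trace_eq_matrix_trace F b, Matrix.trace, Finset.sum_range]
    apply Finset.sum_congr rfl
    intro i _
    rw [Matrix.diag_apply, LinearMap.toMatrix_apply, hb i, Module.End.mul_apply, apply_pow_apply,
      opF_apply ν v b hb hnil, Nat.add_sub_cancel, ← hb i, map_smul, Basis.repr_self, Finsupp.smul_apply,
      Finsupp.single_eq_same, smul_eq_mul, mul_one]
    push_cast
    rfl
  rw [h1, sum_formula]
  ring

theorem trace_opF_mul_pow (hb : ∀ i, b i = (ν ^ (i : ℕ)) v) (hnil : ν ^ (finrank F W) = 0) (m : ℕ)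
    (hm : 2 ≤ m) : LinearMap.trace F W (opF ν v b * ν ^ m) = 0 := by
  rw [LinearMap.trace_eq_matrix_trace F b, Matrix.trace]
  apply Finset.sum_eq_zero
  intro i _
  rw [Matrix.diag_apply, LinearMap.toMatrix_apply, hb i, Module.End.mul_apply, ← Module.End.mul_apply (ν ^ m),
    ← pow_add, opF_apply ν v b hb hnil, map_smul, Finsupp.smul_apply]
  by_cases hk : m + (i : ℕ) - 1 < finrank F W
  · have h1 := hb ⟨m + (i : ℕ) - 1, hk⟩
    simp only at h1
    rw [← h1, Basis.repr_self, Finsupp.single_eq_of_ne, smul_zero]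
    intro h
    have := congrArg Fin.val h
    simp only at this
    omega
  · rw [pow_apply_eq_zero ν v hnil _ (not_lt.mp hk), map_zero, Finsupp.zero_apply, smul_zero]

theorem trace_pow_eq_zero [FiniteDimensional F W] (hnil : ν ^ (finrank F W) = 0) (k : ℕ) (hk : 1 ≤ k) :
    LinearMap.trace F W (ν ^ k) = 0 := by
  apply IsNilpotent.eq_zero
  apply LinearMap.isNilpotent_trace_of_isNilpotent
  refine ⟨finrank F W, ?_⟩
  rw [← pow_mul, mul_comm, pow_mul, hnil, zero_pow (by omega)]

/-- An endomorphism commuting with `ν` is a polynomial in `ν`. -/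
theorem eq_sum_pow_of_commute (hb : ∀ i, b i = (ν ^ (i : ℕ)) v) (A : Module.End F W)
    (hA : ν * A = A * ν) :
    ∃ a : ℕ → F, A = ∑ k ∈ Finset.range (finrank F W), a k • ν ^ k := by
  have hcomm : ∀ k : ℕ, ν ^ k * A = A * ν ^ k := fun k => (Commute.pow_left (show Commute ν A from hA) k).eq
  obtain ⟨a, hAv⟩ : ∃ a : ℕ → F, A v = ∑ k ∈ Finset.range (finrank F W), a k • (ν ^ k) v := by
    refine ⟨fun k => if h : k < finrank F W then b.repr (A v) ⟨k, h⟩ else 0, ?_⟩
    rw [Finset.sum_range]
    conv_lhs => rw [← b.sum_repr (A v)]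
    apply Finset.sum_congr rfl
    intro i _
    simp only
    rw [dif_pos i.2, hb i]
  refine ⟨a, ?_⟩
  apply b.ext
  intro i
  rw [hb i, ← Module.End.mul_apply, ← hcomm, Module.End.mul_apply, hAv, map_sum, LinearMap.sum_apply]
  apply Finset.sum_congr rfl
  intro k _
  rw [map_smul, LinearMap.smul_apply, ← Module.End.mul_apply, ← Module.End.mul_apply, ← pow_add, ← pow_add,
    add_comm]

/-- The powers `ν ^ k`, `k < dim W`, are linearly independent endomorphisms. -/
theorem linearIndependent_pow (hb : ∀ i, b i = (ν ^ (i : ℕ)) v) :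
    LinearIndependent F (fun i : Fin (finrank F W) => ν ^ (i : ℕ)) := by
  apply LinearIndependent.of_comp (LinearMap.applyₗ v)
  have h1 : (LinearMap.applyₗ v : Module.End F W →ₗ[F] W) ∘ (fun i : Fin (finrank F W) => ν ^ (i : ℕ)) = b := by
    funext i
    rw [hb i]
    rfl
  rw [h1]
  exact b.linearIndependent

end sl2

section ad

variable {F W : Type*} [Field F] [AddCommGroup W] [Module F W]

/-- The inner derivation `A ↦ ν A - A ν` of the endomorphism algebra. -/
noncomputable def adL (ν : Module.End F W) : Module.End F (Module.End F W) :=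
  LinearMap.mulLeft F ν - LinearMap.mulRight F ν

theorem adL_apply (ν A : Module.End F W) : adL ν A = ν * A - A * ν := rfl

theorem adL_mul (ν X Y : Module.End F W) : adL ν (X * Y) = adL ν X * Y + X * adL ν Y := by
  simp only [adL_apply]
  noncomm_ring

theorem adL_pow_self (ν : Module.End F W) (k : ℕ) : adL ν (ν ^ k) = 0 := by
  rw [adL_apply, ← pow_succ', ← pow_succ, sub_self]

theorem adL_self (ν : Module.End F W) : adL ν ν = 0 := by
  rw [adL_apply, sub_self]

theorem adL_pow_mul (ν : Module.End F W) (k : ℕ) (X : Module.End F W) :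
    adL ν (ν ^ k * X) = ν ^ k * adL ν X := by
  rw [adL_mul, adL_pow_self, zero_mul, zero_add]

theorem adL_pow_pow_mul (ν : Module.End F W) (k n : ℕ) (X : Module.End F W) :
    (adL ν ^ n) (ν ^ k * X) = ν ^ k * (adL ν ^ n) X := by
  induction n generalizing X with
  | zero => simp
  | succ n ih => rw [pow_succ, Module.End.mul_apply, Module.End.mul_apply, adL_pow_mul, ih]

theorem adL_sq_pow_mul (ν H Fop : Module.End F W) (h1 : ν * Fop - Fop * ν = H)
    (h2 : H * ν - ν * H = 2 * ν) (k : ℕ) :
    (adL ν ^ 2) (ν ^ k * Fop) = -(2 * ν ^ (k + 1)) := by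
  have hF : adL ν Fop = H := h1
  have hH : adL ν H = -(2 * ν) := by
    rw [adL_apply, ← h2]
    noncomm_ring
  rw [adL_pow_pow_mul, pow_two, Module.End.mul_apply, hF, hH, pow_succ]
  noncomm_ring

theorem adL_pow_four_pow_mul (ν H Fop : Module.End F W) (h1 : ν * Fop - Fop * ν = H)
    (h2 : H * ν - ν * H = 2 * ν) (k : ℕ) :
    (adL ν ^ 4) (ν ^ k * (Fop * Fop)) = 24 * ν ^ (k + 2) := by
  have hF : adL ν Fop = H := h1
  have hH : adL ν H = -(2 * ν) := by
    rw [adL_apply, ← h2]
    noncomm_ring
  have hν : adL ν ν = 0 := adL_self ν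
  have h2ν : adL ν (2 * ν) = 0 := by
    rw [two_mul, map_add, hν, add_zero]
  have e1 : adL ν (Fop * Fop) = H * Fop + Fop * H := by rw [adL_mul, hF]
  have e2 : adL ν (H * Fop + Fop * H) = 2 * (H * H) - 2 * (ν * Fop) - 2 * (Fop * ν) := by
    rw [map_add, adL_mul, adL_mul, hF, hH]
    noncomm_ring
  have e3 : adL ν (2 * (H * H) - 2 * (ν * Fop) - 2 * (Fop * ν)) = -(6 * (ν * H)) - 6 * (H * ν) := by
    rw [map_sub, map_sub, two_mul, two_mul, two_mul, map_add, map_add, map_add, adL_mul, adL_mul, adL_mul,
      hF, hH, hν]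
    noncomm_ring
  have e4 : adL ν (-(6 * (ν * H)) - 6 * (H * ν)) = 24 * (ν * ν) := by
    have h6 : ∀ X : Module.End F W, adL ν (6 * X) = 6 * adL ν X := by
      intro X
      rw [adL_apply, adL_apply]
      noncomm_ring
    rw [map_sub, map_neg, h6, h6, adL_mul, adL_mul, hH, hν]
    noncomm_ring
  rw [adL_pow_pow_mul]
  have e5 : (adL ν ^ 4) (Fop * Fop) = 24 * (ν * ν) := by
    rw [show (4 : ℕ) = 1 + 1 + 1 + 1 from rfl, pow_succ, pow_succ, pow_succ, pow_one, Module.End.mul_apply,
      Module.End.mul_apply, Module.End.mul_apply, e1, e2, e3, e4]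
  rw [e5, pow_add, pow_two]
  noncomm_ring

theorem trace_adL (ν A : Module.End F W) : LinearMap.trace F W (adL ν A) = 0 := by
  rw [adL_apply, map_sub, LinearMap.trace_mul_comm, sub_self]

theorem trace_mul_adL (ν X A : Module.End F W) :
    LinearMap.trace F W (X * adL ν A) = - LinearMap.trace F W (adL ν X * A) := by
  rw [adL_apply, adL_apply, mul_sub, sub_mul, map_sub, map_sub, neg_sub, ← mul_assoc X ν A, ← mul_assoc X A ν,
    LinearMap.trace_mul_comm F (X * A) ν, mul_assoc ν X A]

theorem trace_mul_adL_pow_three (ν H Fop : Module.End F W) (h1 : ν * Fop - Fop * ν = H)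
    (h2 : H * ν - ν * H = 2 * ν) (A : Module.End F W) :
    LinearMap.trace F W (Fop * (adL ν ^ 3) A) = 0 := by
  have hF : adL ν Fop = H := h1
  have hH : adL ν H = -(2 * ν) := by
    rw [adL_apply, ← h2]
    noncomm_ring
  have h2ν : adL ν (-(2 * ν)) = 0 := by
    rw [map_neg, two_mul, map_add, adL_self, add_zero, neg_zero]
  rw [show (3 : ℕ) = 1 + 1 + 1 from rfl, pow_succ, pow_succ, pow_one, Module.End.mul_apply, Module.End.mul_apply,
    trace_mul_adL, hF, trace_mul_adL, hH, trace_mul_adL, h2ν, zero_mul, map_zero, neg_zero, neg_zero, neg_zero]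

end ad

section red

variable {F V : Type*} [Field F] [AddCommGroup V] [Module F V]

theorem ker_eq_of_comm_unit (D a R R' : Module.End F V) (hD : D = a * R) (hc : a * R = R * a)
    (hR'R : R' * R = 1) : LinearMap.ker D = LinearMap.ker a := by
  ext x
  rw [LinearMap.mem_ker, LinearMap.mem_ker, hD, hc, Module.End.mul_apply]
  constructor
  · intro h
    have := congrArg R' h
    rwa [← Module.End.mul_apply, hR'R, Module.End.one_apply, map_zero] at this
  · intro h
    rw [h, map_zero]

theorem pow_eq_of_comm_unit (D a R : Module.End F V) (hD : D = a * R) (hc : a * R = R * a) (k : ℕ) :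
    D ^ k = a ^ k * R ^ k := by
  rw [hD, (show Commute a R from hc).mul_pow]

theorem range_pow_eq_of_comm_unit (D a R R' : Module.End F V) (hD : D = a * R) (hc : a * R = R * a)
    (hRR' : R * R' = 1) (hR'R : R' * R = 1) (k : ℕ) :
    LinearMap.range (D ^ k) = LinearMap.range (a ^ k) := by
  have h1 : D ^ k = a ^ k * R ^ k := pow_eq_of_comm_unit D a R hD hc k
  have hcR : Commute R R' := hRR'.trans hR'R.symm
  have h2 : a ^ k = D ^ k * R' ^ k := by
    rw [h1, mul_assoc, ← hcR.mul_pow, hRR', one_pow, mul_one]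
  apply le_antisymm
  · rw [h1]
    exact LinearMap.range_comp_le_range _ _
  · rw [h2]
    exact LinearMap.range_comp_le_range _ _

end red

section main

theorem b3_conj {F W : Type*} [Field F] [AddCommGroup W] [Module F W] [FiniteDimensional F W]
    {p : ℕ} [Fact p.Prime] [CharP F p] (hp5 : 5 ≤ p) (u u' : Module.End F W)
    (huu' : u * u' = 1) (hu'u : u' * u = 1)
    (hnil : (u - 1) ^ (Module.finrank F W) = 0) (hsingle : (u - 1) ^ (Module.finrank F W - 1) ≠ 0)
    (hw2 : 2 ≤ Module.finrank F W) (hwp : Module.finrank F W + 1 < p)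
    (D : Module.End F (Module.End F W)) (hD : ∀ A : Module.End F W, D A = u * A * u' - A) :
    b3 D ⊤ = 1 ∧ D ^ (2 * Module.finrank F W - 1) = 0 := by
  classical
  obtain ⟨ν, hν⟩ : ∃ ν : Module.End F W, ν = u - 1 := ⟨_, rfl⟩
  rw [← hν] at hnil hsingle
  -- nonvanishing of small integers in `F`
  have hcast : ∀ n : ℕ, 0 < n → n < p → (n : F) ≠ 0 := by
    intro n h0 hn h
    rw [CharP.cast_eq_zero_iff F p] at h
    exact absurd (Nat.le_of_dvd h0 h) (not_le.mpr hn)
  have h2F : (2 : F) ≠ 0 := by
    have := hcast 2 (by omega) (by omega)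
    exact_mod_cast this
  have h3F : (3 : F) ≠ 0 := by
    have := hcast 3 (by omega) (by omega)
    exact_mod_cast this
  have h24F : (24 : F) ≠ 0 := by
    have : (24 : F) = 2 ^ 3 * 3 := by norm_num
    rw [this]
    exact mul_ne_zero (pow_ne_zero _ h2F) h3F
  have h6F : (6 : F) ≠ 0 := by
    have : (6 : F) = 2 * 3 := by norm_num
    rw [this]
    exact mul_ne_zero h2F h3F
  have hwF : (finrank F W : F) ≠ 0 := hcast _ (by omega) (by omega)
  have hw1F : (finrank F W : F) + 1 ≠ 0 := by
    have := hcast (finrank F W + 1) (by omega) (by omega)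
    exact_mod_cast this
  have hw0F : (finrank F W : F) - 1 ≠ 0 := by
    have := hcast (finrank F W - 1) (by omega) (by omega)
    rwa [Nat.cast_sub (by omega), Nat.cast_one] at this
  -- the cyclic basis
  obtain ⟨v, hv⟩ : ∃ v, (ν ^ (finrank F W - 1)) v ≠ 0 := by
    by_contra h
    push Not at h
    exact hsingle (LinearMap.ext h)
  have hli := linearIndependent_pow_apply' ν (finrank F W) hnil v hv
  have : Nonempty (Fin (finrank F W)) := ⟨⟨0, by omega⟩⟩
  obtain ⟨b, hb⟩ : ∃ b : Basis (Fin (finrank F W)) F W, ∀ i, b i = (ν ^ (i : ℕ)) v := by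
    refine ⟨basisOfLinearIndependentOfCardEqFinrank hli (by simp), fun i => ?_⟩
    rw [coe_basisOfLinearIndependentOfCardEqFinrank]
  -- the `sl₂`-triple
  obtain ⟨H, hH⟩ : ∃ H : Module.End F W, H = opH b := ⟨_, rfl⟩
  obtain ⟨Fop, hFop⟩ : ∃ Fop : Module.End F W, Fop = opF ν v b := ⟨_, rfl⟩
  have h1 : ν * Fop - Fop * ν = H := by
    rw [hH, hFop]
    exact sl2_rel1 ν v b hb hnil
  have h2 : H * ν - ν * H = 2 * ν := by
    rw [hH]
    exact sl2_rel2 ν v b hb hnil
  have hτ : LinearMap.trace F W (Fop * ν) ≠ 0 := by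
    intro h
    have h3 := trace_opF_mul ν v b hb hnil
    rw [← hFop, h, mul_zero] at h3
    exact mul_ne_zero (mul_ne_zero hw0F hwF) hw1F h3.symm
  have hτ2 : ∀ m, 2 ≤ m → LinearMap.trace F W (Fop * ν ^ m) = 0 := by
    intro m hm
    rw [hFop]
    exact trace_opF_mul_pow ν v b hb hnil m hm
  have hτ0 : ∀ k, 1 ≤ k → LinearMap.trace F W (ν ^ k) = 0 := trace_pow_eq_zero ν hnil
  -- reduction from `D` to `ad ν`
  have hcu : u' * ν = ν * u' := by
    rw [hν, mul_sub, sub_mul, hu'u, huu', mul_one, one_mul]
  have hDa : D = adL ν * LinearMap.mulRight F u' := by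
    apply LinearMap.ext
    intro A
    rw [hD, Module.End.mul_apply, LinearMap.mulRight_apply, adL_apply, mul_assoc A u' ν, hcu, hν, sub_mul, sub_mul,
      one_mul, one_mul, huu', mul_sub, mul_one]
    noncomm_ring
  have hca : adL ν * LinearMap.mulRight F u' = LinearMap.mulRight F u' * adL ν := by
    apply LinearMap.ext
    intro A
    rw [Module.End.mul_apply, Module.End.mul_apply, LinearMap.mulRight_apply, LinearMap.mulRight_apply, adL_apply,
      adL_apply, mul_assoc A u' ν, hcu]
    noncomm_ring
  have hRR' : (LinearMap.mulRight F u' : Module.End F (Module.End F W)) * LinearMap.mulRight F u = 1 := by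
    apply LinearMap.ext
    intro A
    rw [Module.End.mul_apply, LinearMap.mulRight_apply, LinearMap.mulRight_apply, mul_assoc, huu', mul_one,
      Module.End.one_apply]
  have hR'R : (LinearMap.mulRight F u : Module.End F (Module.End F W)) * LinearMap.mulRight F u' = 1 := by
    apply LinearMap.ext
    intro A
    rw [Module.End.mul_apply, LinearMap.mulRight_apply, LinearMap.mulRight_apply, mul_assoc, hu'u, mul_one,
      Module.End.one_apply]
  have hker : LinearMap.ker D = LinearMap.ker (adL ν) :=
    ker_eq_of_comm_unit D (adL ν) _ _ hDa hca hR'R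
  have hrange : ∀ k, LinearMap.range (D ^ k) = LinearMap.range (adL ν ^ k) :=
    range_pow_eq_of_comm_unit D (adL ν) _ _ hDa hca hRR' hR'R
  -- elements of the kernel
  have hkerA : ∀ A ∈ LinearMap.ker (adL ν), ∃ a : ℕ → F, A = ∑ k ∈ Finset.range (finrank F W), a k • ν ^ k := by
    intro A hA
    rw [LinearMap.mem_ker, adL_apply, sub_eq_zero] at hA
    exact eq_sum_pow_of_commute ν v b hb A hA
  -- coefficient `a 0` vanishes on the range of `ad ν`
  have hcoef0 : ∀ (a : ℕ → F) (B : Module.End F W),
      adL ν B = ∑ k ∈ Finset.range (finrank F W), a k • ν ^ k → a 0 = 0 := by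
    intro a B hB
    have h3 := trace_adL ν B
    rw [hB, map_sum, Finset.sum_eq_single 0] at h3
    · rw [map_smul, pow_zero, LinearMap.trace_one, smul_eq_mul] at h3
      rcases mul_eq_zero.mp h3 with h4 | h4
      · exact h4
      · exact absurd h4 hwF
    · intro k _ hk
      rw [map_smul, hτ0 k (by omega), smul_zero]
    · intro h
      exact absurd (Finset.mem_range.mpr (by omega)) h
  -- coefficient `a 1` vanishes on the range of `(ad ν) ^ 3`
  have hcoef1 : ∀ (a : ℕ → F) (B : Module.End F W), a 0 = 0 →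
      (adL ν ^ 3) B = ∑ k ∈ Finset.range (finrank F W), a k • ν ^ k → a 1 = 0 := by
    intro a B ha0 hB
    have h3 := trace_mul_adL_pow_three ν H Fop h1 h2 B
    rw [hB, Finset.mul_sum, map_sum, Finset.sum_eq_single 1] at h3
    · rw [mul_smul_comm, map_smul, pow_one, smul_eq_mul] at h3
      rcases mul_eq_zero.mp h3 with h4 | h4
      · exact h4
      · exact absurd h4 hτ
    · intro k _ hk
      rw [mul_smul_comm, map_smul]
      rcases Nat.eq_zero_or_pos k with h0 | h0
      · rw [h0, ha0, zero_smul]
      · rw [hτ2 k (by omega), smul_zero]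
    · intro h
      exact absurd (Finset.mem_range.mpr (by omega)) h
  -- the two intersections
  have hX2 : LinearMap.ker (adL ν) ⊓ LinearMap.range (adL ν ^ 2) =
      Submodule.span F (Set.range (fun i : Fin (finrank F W - 1) => ν ^ ((i : ℕ) + 1))) := by
    apply le_antisymm
    · rintro A ⟨hA1, hA2⟩
      obtain ⟨a, ha⟩ := hkerA A hA1
      obtain ⟨B, hB⟩ := hA2
      have ha0 : a 0 = 0 := by
        apply hcoef0 a ((adL ν) B)
        rw [← ha, ← hB, pow_two, Module.End.mul_apply]
      rw [ha]
      apply Submodule.sum_mem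
      intro k hk
      rcases Nat.eq_zero_or_pos k with h0 | h0
      · rw [h0, ha0, zero_smul]
        exact Submodule.zero_mem _
      · apply Submodule.smul_mem
        apply Submodule.subset_span
        refine ⟨⟨k - 1, ?_⟩, ?_⟩
        · have := Finset.mem_range.mp hk
          omega
        · simp only
          congr 1
          omega
    · rw [Submodule.span_le]
      rintro A ⟨i, rfl⟩
      refine ⟨?_, ?_⟩
      · rw [SetLike.mem_coe, LinearMap.mem_ker]
        exact adL_pow_self ν _
      · refine ⟨(-(2 : F))⁻¹ • (ν ^ (i : ℕ) * Fop), ?_⟩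
        rw [map_smul, adL_sq_pow_mul ν H Fop h1 h2, two_mul, ← two_smul F, ← neg_smul, smul_smul,
          inv_mul_cancel₀ (neg_ne_zero.mpr h2F), one_smul]
  have hX3 : LinearMap.ker (adL ν) ⊓ LinearMap.range (adL ν ^ 3) =
      Submodule.span F (Set.range (fun i : Fin (finrank F W - 2) => ν ^ ((i : ℕ) + 2))) := by
    apply le_antisymm
    · rintro A ⟨hA1, hA2⟩
      obtain ⟨a, ha⟩ := hkerA A hA1
      obtain ⟨B, hB⟩ := hA2
      have ha0 : a 0 = 0 := by
        apply hcoef0 a ((adL ν ^ 2) B)
        rw [← ha, ← hB, pow_succ' (adL ν) 2, Module.End.mul_apply]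
      have ha1 : a 1 = 0 := by
        apply hcoef1 a B ha0
        rw [← ha, ← hB]
      rw [ha]
      apply Submodule.sum_mem
      intro k hk
      by_cases h0 : k = 0
      · rw [h0, ha0, zero_smul]
        exact Submodule.zero_mem _
      by_cases h1' : k = 1
      · rw [h1', ha1, zero_smul]
        exact Submodule.zero_mem _
      · apply Submodule.smul_mem
        apply Submodule.subset_span
        refine ⟨⟨k - 2, ?_⟩, ?_⟩
        · have := Finset.mem_range.mp hk
          omega
        · simp only
          congr 1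
          omega
    · rw [Submodule.span_le]
      rintro A ⟨i, rfl⟩
      refine ⟨?_, ?_⟩
      · rw [SetLike.mem_coe, LinearMap.mem_ker]
        exact adL_pow_self ν _
      · refine ⟨(24 : F)⁻¹ • adL ν (ν ^ (i : ℕ) * (Fop * Fop)), ?_⟩
        have h4 := adL_pow_four_pow_mul ν H Fop h1 h2 (i : ℕ)
        rw [show (4 : ℕ) = 3 + 1 from rfl, pow_succ, Module.End.mul_apply] at h4
        have h5 : (24 : Module.End F W) * ν ^ ((i : ℕ) + 2) = (24 : F) • ν ^ ((i : ℕ) + 2) := by
          rw [← Nat.cast_ofNat (R := Module.End F W), ← nsmul_eq_mul, ← Nat.cast_ofNat (R := F),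
            Nat.cast_smul_eq_nsmul]
        rw [map_smul, h4, h5, smul_smul, inv_mul_cancel₀ h24F, one_smul]
  -- linear independence and dimensions
  have hliE := linearIndependent_pow ν v b hb
  have hd2 : finrank F ↥(Submodule.span F (Set.range (fun i : Fin (finrank F W - 1) => ν ^ ((i : ℕ) + 1)))) =
      finrank F W - 1 := by
    have hg : Function.Injective (fun i : Fin (finrank F W - 1) => (⟨(i : ℕ) + 1, by omega⟩ : Fin (finrank F W))) := by
      intro i j hij
      have := congrArg Fin.val hij
      simp only at this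
      exact Fin.ext (by omega)
    have := finrank_span_eq_card (hliE.comp _ hg)
    rw [Fintype.card_fin] at this
    exact this
  have hd3 : finrank F ↥(Submodule.span F (Set.range (fun i : Fin (finrank F W - 2) => ν ^ ((i : ℕ) + 2)))) =
      finrank F W - 2 := by
    have hg : Function.Injective (fun i : Fin (finrank F W - 2) => (⟨(i : ℕ) + 2, by omega⟩ : Fin (finrank F W))) := by
      intro i j hij
      have := congrArg Fin.val hij
      simp only at this
      exact Fin.ext (by omega)
    have := finrank_span_eq_card (hliE.comp _ hg)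
    rw [Fintype.card_fin] at this
    exact this
  constructor
  · unfold b3
    rw [Submodule.map_top, Submodule.map_top, hker, hrange 2, hrange 3, hX2, hX3, hd2, hd3]
    omega
  · rw [pow_eq_of_comm_unit D (adL ν) _ hDa hca]
    have h0 : adL ν ^ (2 * finrank F W - 1) = 0 := by
      have hL : ∀ k : ℕ, (LinearMap.mulLeft F ν : Module.End F (Module.End F W)) ^ k = LinearMap.mulLeft F (ν ^ k) := by
        intro k
        induction k with
        | zero =>
          apply LinearMap.ext
          intro A
          simp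
        | succ k ih =>
          apply LinearMap.ext
          intro A
          rw [pow_succ, ih, Module.End.mul_apply, LinearMap.mulLeft_apply, LinearMap.mulLeft_apply,
            LinearMap.mulLeft_apply, pow_succ, mul_assoc]
      have hR : ∀ k : ℕ, (LinearMap.mulRight F ν : Module.End F (Module.End F W)) ^ k = LinearMap.mulRight F (ν ^ k) := by
        intro k
        induction k with
        | zero =>
          apply LinearMap.ext
          intro A
          simp
        | succ k ih =>
          apply LinearMap.ext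
          intro A
          rw [pow_succ, ih, Module.End.mul_apply, LinearMap.mulRight_apply, LinearMap.mulRight_apply,
            LinearMap.mulRight_apply, pow_succ', mul_assoc]
      obtain ⟨L, hLd⟩ : ∃ L : Module.End F (Module.End F W), L = LinearMap.mulLeft F ν := ⟨_, rfl⟩
      obtain ⟨Rr, hRd⟩ : ∃ Rr : Module.End F (Module.End F W), Rr = LinearMap.mulRight F ν := ⟨_, rfl⟩
      have hL0 : L ^ (finrank F W) = 0 := by
        rw [hLd, hL, hnil, LinearMap.mulLeft_zero_eq_zero]
      have hR0 : (-Rr) ^ (finrank F W) = 0 := by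
        have h7 := neg_pow Rr (finrank F W)
        rw [h7, hRd, hR, hnil, LinearMap.mulRight_zero_eq_zero, mul_zero]
      have hc0 : Commute L Rr := by
        rw [hLd, hRd]
        exact LinearMap.commute_mulLeft_right ν ν
      have hc : Commute L (-Rr) := hc0.neg_right
      have h5 := hc.add_pow_eq_zero_of_add_le_succ_of_pow_eq_zero hL0 hR0
        (k := 2 * finrank F W - 1) (by omega)
      have h6 : adL ν = L + -Rr := by
        rw [hLd, hRd, ← sub_eq_add_neg]
        rfl
      rw [h6]
      exact h5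
    rw [h0, zero_mul]

end main

end Cfsg.Agent.Lib.Helper15.S4504
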